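import Groth.Agent.SymBC17.Universal
import Groth.Agent.SGA1Quot.Factor
import Mathlib.Algebra.Category.Ring.Constructions

/-!
# Invariants in a pushout when the formation of invariants is universal
-/

set_option autoImplicit false
set_option linter.style.haveILetI false

universe u

open CategoryTheory TensorProduct

namespace Groth.Agent.SymBC17

/-- Transport of `symT_universal` along a linear identification. -/
theorem universal_of_equiv {k R B : Type u} [CommRing k] [AddCommGroup R] [Module k R] [AddCommGroup B] [Module k B]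
    {M : Type u} [AddCommGroup M] [Module k M] [Module.Flat k M] {n : ℕ}
    (φ : (⨂[k] _ : Fin n, M) ≃ₗ[k] B) (L : R →ₗ[k] B) (hL : Function.Injective L)
    (P : Equiv.Perm (Fin n) → (B →ₗ[k] B))
    (hP : ∀ σ t, P σ (φ t) = φ (PiTensorProduct.reindex k (fun _ : Fin n => M) σ.symm t))
    (hrange : ∀ b, b ∈ Set.range L ↔ ∀ σ, P σ b = b) (N : Type u) [AddCommGroup N] [Module k N] :
    Function.Injective (L.lTensor N) ∧
      ∀ y : N ⊗[k] B, (∀ σ, (P σ).lTensor N y = y) → ∃ z, L.lTensor N z = y := by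
  obtain ⟨h1, h2⟩ := symT_universal k M n N
  have hmem : ∀ r, φ.symm (L r) ∈ symT k M n := fun r => (mem_symT k).2 fun σ => φ.injective (by
    have h := hP σ.symm (φ.symm (L r))
    rw [Equiv.symm_symm, φ.apply_symm_apply] at h
    rw [← h, φ.apply_symm_apply]
    exact (hrange _).1 ⟨r, rfl⟩ σ.symm)
  let e₀ : R →ₗ[k] symT k M n := (φ.symm.toLinearMap ∘ₗ L).codRestrict _ hmem
  have he₀ : Function.Bijective e₀ := by
    refine ⟨fun a b h => hL (φ.symm.injective (congrArg Subtype.val h)), fun t => ?_⟩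
    obtain ⟨r, hr⟩ := (hrange (φ t.1)).2 fun σ => by rw [hP, (mem_symT k).1 t.2]
    exact ⟨r, Subtype.ext (show φ.symm (L r) = t.1 by rw [hr, φ.symm_apply_apply])⟩
  let e := LinearEquiv.ofBijective e₀ he₀
  have hLe : L = φ.toLinearMap ∘ₗ (symT k M n).subtype ∘ₗ e.toLinearMap :=
    LinearMap.ext fun r => (φ.apply_symm_apply (L r)).symm
  have hc : ∀ z, L.lTensor N z = TensorProduct.comm k _ N ((φ.toLinearMap).rTensor N
      ((symT k M n).subtype.rTensor N (e.toLinearMap.rTensor N (TensorProduct.comm k N R z)))) := fun z => by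
    induction z with
    | zero => simp
    | add a b ha hb => simp [ha, hb]
    | tmul a r => simp [hLe]
  have hφ : Function.Injective (φ.toLinearMap.rTensor N) := (LinearEquiv.rTensor N φ).injective
  have he : Function.Bijective (e.toLinearMap.rTensor N) := (LinearEquiv.rTensor N e).bijective
  refine ⟨fun a b h => ?_, fun y hy => ?_⟩
  · rw [hc, hc] at h
    exact (TensorProduct.comm k N R).injective (he.1 (h1 (hφ ((TensorProduct.comm k _ N).injective h))))
  · let y' := (φ.symm.toLinearMap).rTensor N (TensorProduct.comm k N B y)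
    have key : ∀ σ (x : N ⊗[k] B), (PiTensorProduct.reindex k (fun _ : Fin n => M) σ).toLinearMap.rTensor N
        (φ.symm.toLinearMap.rTensor N (TensorProduct.comm k N B x)) =
        φ.symm.toLinearMap.rTensor N (TensorProduct.comm k N B ((P σ.symm).lTensor N x)) := fun σ x => by
      induction x with
      | zero => simp
      | add a b ha hb => simp [ha, hb]
      | tmul a r =>
        have h := hP σ.symm (φ.symm r)
        rw [Equiv.symm_symm, φ.apply_symm_apply] at h
        simp [h]
    obtain ⟨w, hw⟩ := h2 y' fun σ => by rw [key, hy]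
    obtain ⟨z, hz⟩ := he.2 w
    refine ⟨(TensorProduct.comm k N R).symm z, ?_⟩
    rw [hc, LinearEquiv.apply_symm_apply, hz, hw]
    apply (TensorProduct.comm k N B).injective
    simp only [y', ← LinearMap.rTensor_comp_apply, φ.comp_symm, LinearMap.rTensor_id_apply]
    exact (TensorProduct.comm k N B).apply_symm_apply _

attribute [local instance] Algebra.TensorProduct.rightAlgebra

/-- Invariants in a base change, from universality. -/
theorem invariants_of_isPushout {G : Type*} {k R B k' R' B' : CommRingCat.{u}}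
    {a : k ⟶ R} {j : k ⟶ k'} {t₁ : R ⟶ R'} {s₁ : k' ⟶ R'} (h₁ : IsPushout a j t₁ s₁)
    {ι : R ⟶ B} {t : B ⟶ B'} {ι' : R' ⟶ B'} (h : IsPushout (a ≫ ι) j t (s₁ ≫ ι')) (hc : t₁ ≫ ι' = ι ≫ t)
    (σ : G → (B ⟶ B)) (hσ : ∀ g, a ≫ ι ≫ σ g = a ≫ ι) (σ' : G → (B' ⟶ B')) (ht : ∀ g, t ≫ σ' g = σ g ≫ t)
    (hs : ∀ g, (s₁ ≫ ι') ≫ σ' g = s₁ ≫ ι')
    (hU : letI := a.hom.toAlgebra; letI := (a ≫ ι).hom.toAlgebra; letI := j.hom.toAlgebra;
      Function.Injective ((({ ι.hom with commutes' := fun _ => rfl } : R →ₐ[k] B).toLinearMap).lTensor k') ∧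
      ∀ y : k' ⊗[k] B, (∀ g, (({ (σ g).hom with
          commutes' := fun r => congrArg (fun φ : k ⟶ B => φ r) (hσ g) } : B →ₐ[k] B).toLinearMap).lTensor k' y = y) →
        ∃ z, (({ ι.hom with commutes' := fun _ => rfl } : R →ₐ[k] B).toLinearMap).lTensor k' z = y) :
    Function.Injective ι'.hom ∧ ∀ b', (∀ g, σ' g b' = b') → ∃ r, ι' r = b' := by
  letI : Algebra k R := a.hom.toAlgebra
  letI : Algebra k B := (a ≫ ι).hom.toAlgebra
  letI : Algebra k k' := j.hom.toAlgebra
  letI : Algebra k' R' := s₁.hom.toAlgebra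
  letI : Algebra R R' := t₁.hom.toAlgebra
  letI : Algebra k' B' := (s₁ ≫ ι').hom.toAlgebra
  letI : Algebra B B' := t.hom.toAlgebra
  letI : Algebra k R' := (j ≫ s₁).hom.toAlgebra
  letI : Algebra k B' := (j ≫ s₁ ≫ ι').hom.toAlgebra
  haveI : IsScalarTower k k' R' := IsScalarTower.of_algebraMap_eq fun x => rfl
  haveI : IsScalarTower k R R' := IsScalarTower.of_algebraMap_eq fun x => by
    show (j ≫ s₁) x = (a ≫ t₁) x
    rw [h₁.w]
  haveI : IsScalarTower k k' B' := IsScalarTower.of_algebraMap_eq fun x => rfl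
  haveI : IsScalarTower k B B' := IsScalarTower.of_algebraMap_eq fun x => by
    show (j ≫ s₁ ≫ ι') x = ((a ≫ ι) ≫ t) x
    rw [h.w]
  haveI : Algebra.IsPushout k k' R R' := CommRingCat.isPushout_iff_isPushout.mp h₁.flip
  haveI : Algebra.IsPushout k k' B B' := CommRingCat.isPushout_iff_isPushout.mp h.flip
  let e₁ := Algebra.IsPushout.equiv k k' R R'
  let e := Algebra.IsPushout.equiv k k' B B'
  let L := ({ ι.hom with commutes' := fun _ => rfl } : R →ₐ[k] B).toLinearMap
  have hL : ∀ x, ι' (e₁ x) = e (L.lTensor k' x) := fun x => by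
    induction x with
    | zero => simp
    | add u v hu hv => simp only [map_add, hu, hv]
    | tmul c r =>
      rw [LinearMap.lTensor_tmul, Algebra.IsPushout.equiv_tmul, Algebra.IsPushout.equiv_tmul]
      show ι' (s₁ c * t₁ r) = (s₁ ≫ ι') c * t (ι r)
      rw [map_mul]
      exact congrArg (_ * ·) (congrArg (fun φ : R ⟶ B' => φ r) hc)
  obtain ⟨hi, hs'⟩ := hU
  refine ⟨fun x y hxy => ?_, fun b' hb' => ?_⟩
  · obtain ⟨x, rfl⟩ := e₁.surjective x
    obtain ⟨y, rfl⟩ := e₁.surjective y
    rw [hL, hL] at hxy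
    exact congrArg e₁ (hi (e.injective hxy))
  · obtain ⟨y, rfl⟩ := e.surjective b'
    obtain ⟨z, hz⟩ := hs' y fun g => e.injective (by
      refine Eq.trans ?_ (hb' g)
      clear hb'
      induction y with
      | zero => simp
      | add u v hu hv => simp only [map_add, hu, hv]
      | tmul c r =>
        rw [LinearMap.lTensor_tmul, Algebra.IsPushout.equiv_tmul, Algebra.IsPushout.equiv_tmul]
        show (s₁ ≫ ι') c * t (σ g r) = σ' g ((s₁ ≫ ι') c * t r)
        rw [map_mul, show σ' g ((s₁ ≫ ι') c) = (s₁ ≫ ι') c from congrArg (fun φ : k' ⟶ B' => φ c) (hs g),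
          show σ' g (t r) = t (σ g r) from congrArg (fun φ : B ⟶ B' => φ r) (ht g)])
    exact ⟨e₁ z, by rw [hL]; exact congrArg e hz⟩

end Groth.Agent.SymBC17
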