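import Groth.Agent.CommAlg4.SymTensor
import Mathlib.LinearAlgebra.TensorProduct.Vanishing

/-!
# Symmetric tensors of flat modules commute with base change
-/

set_option autoImplicit false

universe u v w

open scoped TensorProduct
open PiTensorProduct Groth.Agent.CommAlg4

namespace Groth.Agent.SymBC17

variable (R : Type u) [CommRing R] {M : Type v} [AddCommGroup M] [Module R M] {n : ℕ}
variable {N : Type w} [AddCommGroup N] [Module R N]

abbrev symT (M : Type v) [AddCommGroup M] [Module R M] (n : ℕ) : Submodule R (⨂[R] _ : Fin n, M) :=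
  ⨅ σ : Equiv.Perm (Fin n), LinearMap.eqLocus (reindex R (fun _ : Fin n => M) σ).toLinearMap LinearMap.id

theorem mem_symT {t : ⨂[R] _ : Fin n, M} :
    t ∈ symT R M n ↔ ∀ σ : Equiv.Perm (Fin n), reindex R (fun _ : Fin n => M) σ t = t := by
  simp [symT, Submodule.mem_iInf]

/-- An element killed by `φ ⊗ N` is killed at a finite stage. -/
theorem kill_tensor [Module.Flat R M] {m : ℕ} (φ : (Fin m → R) →ₗ[R] M)
    (w : (⨂[R] _ : Fin n, (Fin m → R)) ⊗[R] N) (hw : (tmap R n φ).rTensor N w = 0) :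
    ∃ (k : ℕ) (u : (Fin m → R) →ₗ[R] (Fin k → R)) (ψ : (Fin k → R) →ₗ[R] M),
      ψ ∘ₗ u = φ ∧ (tmap R n u).rTensor N w = 0 := by
  classical
  haveI := flat_tensorPower R M n
  obtain ⟨S, rfl⟩ := TensorProduct.exists_finset w
  have h0 : ∑ i : S, i.1.2 ⊗ₜ[R] tmap R n φ i.1.1 = 0 := by
    rw [Finset.sum_coe_sort S fun p => p.2 ⊗ₜ[R] tmap R n φ p.1]
    simpa [map_sum] using congrArg (TensorProduct.comm R _ N) hw
  obtain ⟨κ, a, y, hy, ha⟩ := TensorProduct.vanishesTrivially_of_sum_tmul_eq_zero_of_rTensor_injective R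
    (Module.Flat.rTensor_preserves_injective_linearMap _ (Submodule.injective_subtype _)) h0
  obtain ⟨p, θ, s, hs⟩ := exists_lift R n y
  let i₁ : (Fin m → R) →ₗ[R] (Fin (m + p) → R) :=
    (LinearEquiv.funCongrLeft R R finSumFinEquiv.symm).toLinearMap ∘ₗ
      (LinearEquiv.sumArrowLequivProdArrow (Fin m) (Fin p) R R).symm.toLinearMap ∘ₗ LinearMap.inl R _ _
  let i₂ : (Fin p → R) →ₗ[R] (Fin (m + p) → R) :=
    (LinearEquiv.funCongrLeft R R finSumFinEquiv.symm).toLinearMap ∘ₗ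
      (LinearEquiv.sumArrowLequivProdArrow (Fin m) (Fin p) R R).symm.toLinearMap ∘ₗ LinearMap.inr R _ _
  let Θ : (Fin (m + p) → R) →ₗ[R] M := (LinearMap.coprod φ θ) ∘ₗ
    (LinearEquiv.sumArrowLequivProdArrow (Fin m) (Fin p) R R).toLinearMap ∘ₗ
      (LinearEquiv.funCongrLeft R R finSumFinEquiv).toLinearMap
  have hc : ∀ v : Fin m ⊕ Fin p → R, LinearMap.funLeft R R (finSumFinEquiv (m := m) (n := p))
      (LinearMap.funLeft R R (finSumFinEquiv (m := m) (n := p)).symm v) = v := fun v => funext fun i => by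
    simp [LinearMap.funLeft]
  have h₁ : Θ ∘ₗ i₁ = φ := LinearMap.ext fun x => by simp [Θ, i₁, hc]
  have h₂ : Θ ∘ₗ i₂ = θ := LinearMap.ext fun x => by simp [Θ, i₂, hc]
  let z : S → ⨂[R] _ : Fin n, (Fin (m + p) → R) := fun i =>
    tmap R n i₁ i.1.1 - ∑ j, a i j • tmap R n i₂ (s j)
  obtain ⟨k, u, ψ, hψ, hu⟩ := exists_kill_finset R (exists_kill R n) Finset.univ Θ z fun i _ => by
    simp only [z, map_sub, map_sum, map_smul, ← tmap_comp, h₁, h₂, hs]
    rw [← hy i, sub_self]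
  refine ⟨k, u ∘ₗ i₁, ψ, by rw [← LinearMap.comp_assoc, hψ, h₁], ?_⟩
  have hui : ∀ i : S, tmap R n (u ∘ₗ i₁) i.1.1 = ∑ j, a i j • tmap R n u (tmap R n i₂ (s j)) := fun i => by
    have := hu i (Finset.mem_univ i)
    simp only [z, map_sub, map_sum, map_smul, sub_eq_zero] at this
    rw [tmap_comp]; exact this
  rw [← Finset.sum_coe_sort, map_sum]
  simp only [LinearMap.rTensor_tmul, hui, TensorProduct.sum_tmul, TensorProduct.smul_tmul']
  rw [Finset.sum_comm]
  refine Finset.sum_eq_zero fun j _ => ?_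
  simp only [← TensorProduct.smul_tmul', ← TensorProduct.tmul_smul, ← TensorProduct.tmul_sum]
  rw [ha j, TensorProduct.tmul_zero]

theorem kill_tensor_finset [Module.Flat R M] {ι : Type*} (I : Finset ι) {m : ℕ} (φ : (Fin m → R) →ₗ[R] M)
    (w : ι → (⨂[R] _ : Fin n, (Fin m → R)) ⊗[R] N) (hw : ∀ i ∈ I, (tmap R n φ).rTensor N (w i) = 0) :
    ∃ (k : ℕ) (u : (Fin m → R) →ₗ[R] (Fin k → R)) (ψ : (Fin k → R) →ₗ[R] M),
      ψ ∘ₗ u = φ ∧ ∀ i ∈ I, (tmap R n u).rTensor N (w i) = 0 := by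
  classical
  induction I using Finset.induction_on with
  | empty => exact ⟨m, LinearMap.id, φ, rfl, by simp⟩
  | @insert a I ha ih =>
    obtain ⟨k, u, ψ, hψ, hu⟩ := ih fun i hi => hw i (Finset.mem_insert_of_mem hi)
    have hc : ∀ {l : ℕ} (g : (Fin k → R) →ₗ[R] (Fin l → R)) (x : (⨂[R] _ : Fin n, (Fin m → R)) ⊗[R] N),
        (tmap R n (g ∘ₗ u)).rTensor N x = (tmap R n g).rTensor N ((tmap R n u).rTensor N x) := fun g x => by
      rw [← LinearMap.rTensor_comp_apply]; congr 2; exact LinearMap.ext (tmap_comp R n g u)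
    have : (tmap R n ψ).rTensor N ((tmap R n u).rTensor N (w a)) = 0 := by
      rw [← LinearMap.rTensor_comp_apply, show tmap R n ψ ∘ₗ tmap R n u = tmap R n φ from
        LinearMap.ext fun x => by rw [← hψ]; exact (tmap_comp R n ψ u x).symm]
      exact hw a (Finset.mem_insert_self a I)
    obtain ⟨k', u', ψ', hψ', hu'⟩ := kill_tensor R ψ _ this
    refine ⟨k', u' ∘ₗ u, ψ', by rw [← LinearMap.comp_assoc, hψ', hψ], fun i hi => ?_⟩
    rw [hc]
    rcases Finset.mem_insert.1 hi with rfl | hi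
    · exact hu'
    · rw [hu i hi, map_zero]

/-- The retraction onto symmetric tensors of a free module through orbit representatives. -/
theorem exists_retraction (m : ℕ) :
    ∃ r : (⨂[R] _ : Fin n, (Fin m → R)) →ₗ[R] ⨂[R] _ : Fin n, (Fin m → R),
      (∀ t, r t ∈ symT R (Fin m → R) n) ∧
      (∀ t ∈ symT R (Fin m → R) n, r t = t) ∧
      ∀ y : (⨂[R] _ : Fin n, (Fin m → R)) ⊗[R] N,
        (∀ σ : Equiv.Perm (Fin n), (reindex R (fun _ => (Fin m → R)) σ).toLinearMap.rTensor N y = y) →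
          r.rTensor N y = y := by
  classical
  set b := Basis.piTensorProduct fun _ : Fin n => Pi.basisFun R (Fin m)
  let rel : Setoid (Fin n → Fin m) :=
    { r := fun g g' => ∃ σ : Equiv.Perm (Fin n), g' = g ∘ σ
      iseqv := ⟨fun g => ⟨1, rfl⟩, fun {g g'} ⟨σ, h⟩ => ⟨σ.symm, by subst h; ext; simp⟩,
        fun {g g' g''} ⟨σ, h⟩ ⟨τ, h'⟩ => ⟨τ.trans σ, by subst h; subst h'; ext; simp⟩⟩ }
  let rep : (Fin n → Fin m) → (Fin n → Fin m) := fun g => (Quotient.mk rel g).out
  let r : (⨂[R] _ : Fin n, (Fin m → R)) →ₗ[R] ⨂[R] _ : Fin n, (Fin m → R) :=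
    b.equivFun.symm.toLinearMap ∘ₗ LinearMap.funLeft R R rep ∘ₗ b.equivFun.toLinearMap
  have hr : ∀ t g, b.repr (r t) g = b.repr t (rep g) := fun t g => by
    rw [← Module.Basis.equivFun_apply, ← Module.Basis.equivFun_apply]
    show b.equivFun (b.equivFun.symm _) g = _
    rw [LinearEquiv.apply_symm_apply]; rfl
  have hrep : ∀ g, ∃ σ : Equiv.Perm (Fin n), rep g = g ∘ σ := fun g =>
    rel.iseqv.symm (Quotient.mk_out (s := rel) g)
  refine ⟨r, fun t => (mem_symT R).2 fun σ => b.repr.injective (Finsupp.ext fun g => ?_),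
    fun t ht => b.repr.injective (Finsupp.ext fun g => ?_), fun y hy => ?_⟩
  · rw [repr_reindex, hr, hr]
    exact congrArg (b.repr t) (congrArg Quotient.out (Quotient.sound (⟨σ, rfl⟩ : rel g (g ∘ σ)))).symm
  · obtain ⟨σ, hσ⟩ := hrep g
    rw [hr, hσ, ← repr_reindex R n m σ t g, (mem_symT R).1 ht σ]
  · let C : (Fin n → Fin m) → (⨂[R] _ : Fin n, (Fin m → R)) ⊗[R] N →ₗ[R] N := fun g =>
      (TensorProduct.lid R N).toLinearMap ∘ₗ (Finsupp.lapply g ∘ₗ b.repr.toLinearMap).rTensor N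
    have hC : ∀ x x', (∀ g, C g x = C g x') → x = x' := fun x x' h => by
      apply (TensorProduct.equivFinsuppOfBasisLeft b).injective
      ext g
      have : ∀ z, TensorProduct.equivFinsuppOfBasisLeft b z g = C g z := fun z => by
        induction z with
        | zero => simp
        | tmul p q => simp [C, TensorProduct.equivFinsuppOfBasisLeft_apply_tmul]
        | add p q hp hq => simp [map_add, hp, hq]
      rw [this, this, h]
    refine hC _ _ fun g => ?_
    obtain ⟨σ, hσ⟩ := hrep g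
    conv_rhs => rw [← hy σ]
    simp only [C, LinearMap.comp_apply, LinearEquiv.coe_coe]
    rw [← LinearMap.rTensor_comp_apply, ← LinearMap.rTensor_comp_apply]
    congr 3
    refine LinearMap.ext fun t => ?_
    simp only [LinearMap.comp_apply, Finsupp.lapply_apply, LinearEquiv.coe_coe]
    rw [hr, hσ, repr_reindex]

/-- Symmetric tensors of a flat module commute with tensoring by any module. -/
theorem symT_universal (M : Type v) [AddCommGroup M] [Module R M] [Module.Flat R M] (n : ℕ)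
    (N : Type w) [AddCommGroup N] [Module R N] :
    Function.Injective ((symT R M n).subtype.rTensor N) ∧
      ∀ y : (⨂[R] _ : Fin n, M) ⊗[R] N,
        (∀ σ : Equiv.Perm (Fin n), (reindex R (fun _ => M) σ).toLinearMap.rTensor N y = y) →
          ∃ z, (symT R M n).subtype.rTensor N z = y := by
  classical
  have hmap : ∀ {k : ℕ} (ψ : (Fin k → R) →ₗ[R] M) (t : ⨂[R] _ : Fin n, (Fin k → R)),
      t ∈ symT R (Fin k → R) n → tmap R n ψ t ∈ symT R M n := fun ψ t ht => (mem_symT R).2 fun σ => by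
    rw [← tmap_reindex, (mem_symT R).1 ht σ]
  have comp : ∀ {m k : ℕ} (u : (Fin m → R) →ₗ[R] (Fin k → R)) (ψ : (Fin k → R) →ₗ[R] M) (φ : (Fin m → R) →ₗ[R] M)
      (_ : ψ ∘ₗ u = φ) (x : (⨂[R] _ : Fin n, (Fin m → R)) ⊗[R] N),
      (tmap R n ψ).rTensor N ((tmap R n u).rTensor N x) = (tmap R n φ).rTensor N x := fun u ψ φ h x => by
    rw [← LinearMap.rTensor_comp_apply]; congr 2; exact LinearMap.ext fun t => by rw [← h]; exact (tmap_comp R n ψ u t).symm
  refine ⟨(injective_iff_map_eq_zero _).2 fun z hz => ?_, fun y hy => ?_⟩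
  · obtain ⟨S, rfl⟩ := TensorProduct.exists_finset z
    obtain ⟨m, φ, s, hsym, hs, -⟩ := exists_symm_lift R n (fun _ : S => (0 : R)) (fun i : S => (i.1.1 : ⨂[R] _ : Fin n, M))
      (fun σ i => (mem_symT R).1 i.1.1.2 σ) (by simp)
    obtain ⟨k, u, ψ, hψ, hu⟩ := kill_tensor R φ (∑ i : S, s i ⊗ₜ[R] i.1.2) (by
      simp only [map_sum, LinearMap.rTensor_tmul, hs]
      rw [← Finset.sum_coe_sort, map_sum] at hz
      simpa using hz)
    obtain ⟨r, hr₁, hr₂, -⟩ := exists_retraction R (n := n) (N := N) k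
    let Φ : (⨂[R] _ : Fin n, (Fin k → R)) →ₗ[R] symT R M n :=
      (tmap R n ψ ∘ₗ r).codRestrict _ fun t => hmap ψ _ (hr₁ t)
    have hΦ : ∀ i : S, Φ (tmap R n u (s i)) = i.1.1 := fun i => Subtype.ext (by
      show tmap R n ψ (r (tmap R n u (s i))) = _
      rw [hr₂ _ ((mem_symT R).2 fun σ => by rw [← tmap_reindex, hsym σ i]), ← tmap_comp, hψ, hs])
    have := congrArg (Φ.rTensor N) hu
    simp only [map_sum, LinearMap.rTensor_tmul, map_zero, hΦ] at this
    rw [← Finset.sum_coe_sort]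
    exact this
  · obtain ⟨S, rfl⟩ := TensorProduct.exists_finset y
    obtain ⟨m, φ, s, hs⟩ := exists_lift R n (fun i : S => i.1.1)
    let w : (⨂[R] _ : Fin n, (Fin m → R)) ⊗[R] N := ∑ i : S, s i ⊗ₜ[R] i.1.2
    have hw : (tmap R n φ).rTensor N w = ∑ i ∈ S, i.1 ⊗ₜ[R] i.2 := by
      rw [← Finset.sum_coe_sort S]
      simp [w, hs]
    obtain ⟨k, u, ψ, hψ, hu⟩ := kill_tensor_finset R Finset.univ φ
      (fun σ : Equiv.Perm (Fin n) => (reindex R (fun _ => (Fin m → R)) σ).toLinearMap.rTensor N w - w) fun σ _ => by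
        rw [map_sub, ← LinearMap.rTensor_comp_apply,
          show tmap R n φ ∘ₗ (reindex R (fun _ => (Fin m → R)) σ).toLinearMap =
            (reindex R (fun _ => M) σ).toLinearMap ∘ₗ tmap R n φ from LinearMap.ext fun t => tmap_reindex R n φ σ t,
          LinearMap.rTensor_comp_apply, hw, hy σ, sub_self]
    obtain ⟨r, hr₁, -, hr₃⟩ := exists_retraction R (n := n) (N := N) k
    let Φ : (⨂[R] _ : Fin n, (Fin k → R)) →ₗ[R] symT R M n :=
      (tmap R n ψ ∘ₗ r).codRestrict _ fun t => hmap ψ _ (hr₁ t)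
    refine ⟨Φ.rTensor N ((tmap R n u).rTensor N w), ?_⟩
    rw [← LinearMap.rTensor_comp_apply]
    rw [show (symT R M n).subtype ∘ₗ Φ = tmap R n ψ ∘ₗ r from rfl, LinearMap.rTensor_comp_apply,
      hr₃ _ fun σ => ?_, comp u ψ φ hψ, hw]
    have := hu σ (Finset.mem_univ σ)
    rw [map_sub, sub_eq_zero, ← LinearMap.rTensor_comp_apply] at this
    rw [← LinearMap.rTensor_comp_apply]
    refine Eq.trans ?_ this
    congr 2
    exact LinearMap.ext fun t => (tmap_reindex R n u σ t).symm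

end Groth.Agent.SymBC17
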